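import Cfsg.Agent.H126.SNX.G23Data

/-!
# Checks for S3831, `G₂(3)` (helper126)
-/

set_option autoImplicit false
set_option Elab.async false
set_option maxRecDepth 100000

namespace Cfsg.Agent.H126.SNX.Check

open Cfsg.Lie
open Cfsg.Agent.Lib.PackMat
open Cfsg.Agent.GTwoThree.ModelData
open Cfsg.Agent.GTwoThree.Model
open Cfsg.Agent.OddHalf.Small.G23Data Cfsg.Agent.OddHalf.Small.G23Check
open Cfsg.Agent.H126.SNX.Data

/-! ### `U` -/

/-- the entry of `TU` -/
def te (a b c d e f : ℕ) : List ℕ := (TU.getD (9 * a + 3 * b + c) []).getD (9 * d + 3 * e + f) []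

/-- the check for one element of `U` -/
noncomputable def tc (a b c d e f : ℕ) : Bool :=
  Nat.beq (a + b + c + d + e + f) 0 || (Nat.blt ((te a b c d e f).headD 0) 8 &&
    eqc ((te a b c d e f).tail ++ uw a b c d e f) (rp.getD ((te a b c d e f).headD 0) [] ++ (te a b c d e f).tail))

/-- the check for the last three coordinates -/
def TC (a b c : ℕ) : Prop := ∀ d < 3, ∀ e < 3, ∀ f < 3, tc a b c d e f = true

noncomputable instance (a b c : ℕ) : Decidable (TC a b c) := by unfold TC; infer_instance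

theorem TU_check : ∀ a < 3, ∀ b < 3, ∀ c < 3, TC a b c := by
  decide +kernel

/-! ### `C(z)` -/

/-- the element of `C(z)` -/
def zw (a d i : ℕ) : List ℕ := (wx 6 a ++ wx 9 d) ++ NL.getD (NZ.getD i 0) []

/-- the entry of `TZ` -/
def ze (a d i : ℕ) : List ℕ := TZ.getD (9 * i + 3 * a + d) []

/-- the check for one element of `C(z)` -/
noncomputable def zc (a d i : ℕ) : Bool :=
  nec (zw a d i ++ (zw a d i ++ zw a d i)) wz || (eqc (zw a d i) wz || (Nat.blt ((ze a d i).headD 0) 4 &&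
    eqc ((ze a d i).tail ++ zw a d i) (rz.getD ((ze a d i).headD 0) [] ++ (ze a d i).tail)))

theorem TZ_check : ∀ i < 16, ∀ a < 3, ∀ d < 3, zc a d i = true := by
  decide +kernel

theorem WZ_check : ∀ a < 3, ∀ d < 3, eqc ((wx 6 a ++ wx 9 d) ++ wz) (wz ++ (wx 6 a ++ wx 9 d)) = true := by
  decide +kernel

/-! ### certificates -/

/-- `v`, `v⁻¹` and their conjugates by `g` -/
def sb (r g : List ℕ) (j : ℕ) : List ℕ :=
  if j = 0 then r else if j = 1 then iw r else if j = 2 then g ++ (r ++ iw g) else g ++ (iw r ++ iw g)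

/-- words in `v`, `v ^ g` -/
def sw (r g l : List ℕ) : List ℕ := l.flatMap (sb r g)

/-- powers -/
def pw (w : List ℕ) : ℕ → List ℕ
  | 0 => []
  | k + 1 => w ++ pw w k

/-- the certificate -/
noncomputable def cf (r g la lb : List ℕ) (k l m : ℕ) : Bool :=
  eqc (pw (sw r g la) k) [] && (eqc (pw (sw r g lb) l) [] && (eqc (pw (sw r g la ++ sw r g lb) m) [] &&
    nec (sw r g lb) []))

theorem cf_3c : cf [18, 22] [2, 6] [0, 2, 1] [3, 1, 3, 0] 3 7 2 = true := by decide +kernel
theorem cf_3d : cf [16, 20] [4, 11] [0] [0, 3] 3 7 4 = true := by decide +kernel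
theorem cf_3e : cf [16, 21] [1, 14] [0] [0, 2] 3 13 7 = true := by decide +kernel
theorem cf_9a : cf [12, 14] [6] [0] [0, 0, 0, 3] 9 4 7 = true := by decide +kernel
theorem cf_9b : cf [12, 14, 20] [15, 7] [0, 2] [0, 3] 7 3 4 = true := by decide +kernel
theorem cf_9c : cf [12, 14, 21] [6] [0, 2] [1, 2] 7 3 4 = true := by decide +kernel
theorem cf_6a : cf [13, 10, 13, 13, 10, 13, 18] [21, 2, 6] [0, 2] [2, 2, 1] 7 3 2 = true := by decide +kernel
theorem cf_6b : cf [13, 10, 13, 13, 10, 13, 12] [20, 11, 8] [0, 0] [2, 0, 2] 3 4 7 = true := by decide +kernel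
theorem cf_6c : cf [13, 10, 13, 13, 10, 13, 12, 18] [0] [0, 2] [2, 1] 13 4 3 = true := by decide +kernel
theorem cf_6d : cf [13, 10, 13, 13, 10, 13, 12, 19] [7] [0, 0] [1, 2, 0, 2] 3 7 2 = true := by decide +kernel

end Cfsg.Agent.H126.SNX.Check
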